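import Cfsg.Agent.Lib.Spor.Suz.GTwo.Checks
import Cfsg.Agent.Lib.Spor.Suz.Order
/-!
The subgroup `⟨a, …, f⟩` of the presented Suzuki group is `G₂(4)`, by six matrices of the Chevalley group.
-/

namespace CfsgLib.Spor.Suz.GTwo

open CfsgLib.Spor.TC CfsgLib.Spor.Fi22.U6 Cfsg.Lie

/-- The three nonzero parameters. -/
def param (i : ℕ) : Four := [Four.e, Four.w, Four.u].getD (i % 3) Four.e

theorem roots_val : ∀ r : Fin chevG2.nroots, ∀ t : Four,
    (t = 0 ∧ chevG2.xMat Four r t = 1) ∨
      ∃ i : Fin 36, (i : ℕ) / 3 = (r : ℕ) ∧ param i = t ∧ chevG2.xMat Four r t = progA.val i := by decide +kernel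

theorem roots_form : ∀ i : Fin 36, ∃ r : Fin chevG2.nroots, ∃ t : Four,
    chevG2.xMat Four r t = progA.val i := by decide +kernel

theorem roots_sq : ∀ i : Fin 36, progA.val i * progA.val i = 1 := by decide +kernel

theorem six_sq : ∀ i : Fin 6, progB.val i * progB.val i = 1 := by decide +kernel

theorem outX_spec : ∀ i : Fin 36, outX.getD i 0 < 6 + progB.steps.length ∧
    progB.val (outX.getD i 0) = progA.val i := by decide +kernel

theorem outW_spec : ∀ i : Fin 6, outW.getD i 0 < 36 + progA.steps.length ∧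
    progA.val (outW.getD i 0) = progB.val i := by decide +kernel

theorem rels_below : ∀ i : Fin relsA.length, (powWord relsA[i].1 relsA[i].2) ≠ [] ∧
    ∀ y ∈ powWord relsA[i].1 relsA[i].2, y < 6 := by decide +kernel

theorem rels_one : ∀ i : Fin relsA.length,
    progB.place ((powWord relsA[i].1 relsA[i].2).headD 0) (powWord relsA[i].1 relsA[i].2).tail =
      some (outR.getD i 0) ∧ progB.val (outR.getD i 0) = 1 := by decide +kernel

theorem six_ne_one : progB.val 0 ≠ 1 := by decide +kernel

/-- The presented group on six involutions is the Chevalley group of type `G₂` over four elements. -/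
theorem pres_iso : Nonempty (Pres 6 relsA ≃* chevG2.group Four) := by
  classical
  let U : Fin 6 → GL chevG2.Idx Four := fun i => ⟨progB.val i, progB.val i, six_sq i, six_sq i⟩
  let R : Fin 36 → GL chevG2.Idx Four := fun i => ⟨progA.val i, progA.val i, roots_sq i, roots_sq i⟩
  let v : ℕ → GL chevG2.Idx Four := fun x => if h : x < 6 then U ⟨x, h⟩ else 1
  have hv : ∀ x, x < 6 → ((v x : GL chevG2.Idx Four) : M14) = progB.val x := fun x hx => by
    simp only [v, dif_pos hx]; rfl
  have hword : ∀ (w : List ℕ), (∀ y ∈ w, y < 6) →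
      (((w.map v).prod : GL chevG2.Idx Four) : M14) = (w.map progB.val).prod := by
    intro w
    induction w with
    | nil => intro _; simp
    | cons y w ih =>
      intro hw
      simp only [List.map_cons, List.prod_cons, Units.val_mul]
      rw [hv y (hw y List.mem_cons_self), ih fun z hz => hw z (List.mem_cons_of_mem _ hz)]
  have hsat : Sat 6 relsA v := by
    refine ⟨fun x => ?_, fun x hx => ?_, fun r hr => ?_⟩
    · by_cases hx : x < 6
      · refine Units.ext ?_
        rw [Units.val_mul, hv x hx]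
        exact six_sq ⟨x, hx⟩
      · simp [v, hx]
    · simp [v, show ¬ x < 6 from not_lt.2 hx]
    · obtain ⟨i, hi, rfl⟩ := List.mem_iff_getElem.1 hr
      obtain ⟨hp, hc⟩ := rels_one ⟨i, hi⟩
      obtain ⟨hne, hlt⟩ := rels_below ⟨i, hi⟩
      simp only [Fin.getElem_fin] at hp hc hne hlt
      rw [← ev_powWord]
      refine Units.ext ?_
      rw [ev, hword _ hlt, Units.val_one, ← hc, ← progB.place_spec progB_good hp]
      generalize powWord relsA[i].1 relsA[i].2 = w at hne
      cases w with
      | nil => exact absurd rfl hne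
      | cons y w => simp
  let ψ := presHom hsat
  have hψ : ∀ x, ψ (presGen 6 relsA x) = v x := presHom_gen hsat
  have hblen : progB.base.length = 6 := by decide +kernel
  have halen : progA.base.length = 36 := by decide +kernel
  have hrootmem : ∀ i : Fin 36, R i ∈ chevG2.group Four := fun i => by
    obtain ⟨r, t, e⟩ := roots_form i
    exact Subgroup.subset_closure ⟨r, t, e.symm⟩
  let SA : Submonoid M14 :=
    { carrier := {M | ∃ g ∈ chevG2.group Four, ((g : GL chevG2.Idx Four) : M14) = M}
      one_mem' := ⟨1, one_mem _, rfl⟩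
      mul_mem' := fun ⟨g, hg, e⟩ ⟨h, hh, e'⟩ => ⟨g * h, mul_mem hg hh, by simp [e, e']⟩ }
  have hSA := progA.mem (S := SA) progA_good fun i hi =>
    ⟨R ⟨i, lt_of_lt_of_eq hi halen⟩, hrootmem _, rfl⟩
  have hle : ψ.range ≤ chevG2.group Four := by
    rw [MonoidHom.range_eq_map, ← closure_presGen, MonoidHom.map_closure, Subgroup.closure_le]
    rintro _ ⟨_, ⟨x, hx, rfl⟩, rfl⟩
    obtain ⟨g, hg, e⟩ := hSA _ (halen ▸ (outW_spec ⟨x, hx⟩).1)
    rw [hψ]
    have : g = v x := Units.ext (by rw [e, (outW_spec ⟨x, hx⟩).2, hv x hx])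
    exact this ▸ hg
  let SB : Submonoid M14 :=
    { carrier := {M | ∃ g ∈ ψ.range, ((g : GL chevG2.Idx Four) : M14) = M}
      one_mem' := ⟨1, one_mem _, rfl⟩
      mul_mem' := fun ⟨g, hg, e⟩ ⟨h, hh, e'⟩ => ⟨g * h, mul_mem hg hh, by simp [e, e']⟩ }
  have hSB := progB.mem (S := SB) progB_good fun i hi =>
    ⟨v i, ⟨presGen 6 relsA i, hψ i⟩, hv i (lt_of_lt_of_eq hi hblen)⟩
  have hge : chevG2.group Four ≤ ψ.range := by
    rw [ChevalleyDatum.group, Subgroup.closure_le]
    rintro g ⟨r, t, hg⟩
    rcases roots_val r t with ⟨-, h1⟩ | ⟨i, -, -, hi⟩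
    · rw [show g = 1 from Units.ext (hg.trans h1)]
      exact one_mem _
    · obtain ⟨h, hh, e⟩ := hSB _ (hblen ▸ (outX_spec i).1)
      have : g = h := Units.ext (by rw [hg, hi, e, (outX_spec i).2])
      exact this ▸ hh
  have hinj : Function.Injective ψ := by
    haveI := g2_four.1
    rw [← MonoidHom.ker_eq_bot_iff]
    refine (ψ.normal_ker.eq_bot_or_eq_top).resolve_right fun h => six_ne_one ?_
    have h0 : presGen 6 relsA 0 ∈ ψ.ker := h ▸ Subgroup.mem_top _
    rw [MonoidHom.mem_ker, hψ] at h0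
    rw [← hv 0 (by norm_num), h0, Units.val_one]
  exact ⟨(MonoidHom.ofInjective hinj).trans (MulEquiv.subgroupCongr (le_antisymm hle hge))⟩

/-- The same for the subgroup of the presented group on seven involutions. -/
theorem sub_iso : Nonempty (presSub 7 relsG [0, 1, 2, 3, 4, 5] ≃* chevG2.group Four) := by
  obtain ⟨e⟩ := pres_iso
  have hrel : ∀ r ∈ relsA, (r.1.map fun x => [0, 1, 2, 3, 4, 5].getD x 7, r.2) ∈ relsG := by decide +kernel
  let f : Pres 6 relsA →* Pres 7 relsG := subHom (k := 7) [0, 1, 2, 3, 4, 5] hrel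
  have hinj : Function.Injective f := by
    haveI := g2_four.1
    rw [← MonoidHom.ker_eq_bot_iff]
    refine (f.normal_ker.eq_bot_or_eq_top).resolve_right fun h => ?_
    have h0 : presGen 6 relsA 0 ∈ f.ker := h ▸ Subgroup.mem_top _
    rw [MonoidHom.mem_ker, show f (presGen 6 relsA 0) = subGen (presGen 7 relsG) 7 [0, 1, 2, 3, 4, 5] 0 from
      presHom_gen _ 0] at h0
    have h1 : Act0.act.T 0 2 ≠ 2 := by decide +kernel
    refine h1 ?_
    have h2 := Act0.valid.perm_apply (x := 0) (by decide +kernel) ⟨2, by decide +kernel⟩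
    rw [← Act0.valid.rho_letters, Act.letters_of_lt (by decide +kernel)] at h2
    rw [show presGen Act0.act.k relsG 0 = 1 from h0, map_one] at h2
    exact h2.symm
  have hf : f.range = presSub 7 relsG [0, 1, 2, 3, 4, 5] := range_subHom hrel
  exact ⟨((MonoidHom.ofInjective hinj).trans (MulEquiv.subgroupCongr hf)).symm.trans e⟩

end CfsgLib.Spor.Suz.GTwo
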