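import Cfsg.Agent.Lib.Spor.Fi22.U6.Field
import Cfsg.Prelude.Def_ChevG2
/-!
Fourteen by fourteen matrices over the four-element field written as numbers, and programs of checked products.
-/

namespace CfsgLib.Spor.Suz.GTwo

open CfsgLib.Spor.Fi22.U6

/-- Matrices on the coordinates of the adjoint module of type `G₂`. -/
abbrev M14 : Type := Matrix Cfsg.Lie.chevG2.Idx Cfsg.Lie.chevG2.Idx Four

/-- A number as an element of the field. -/
def four : ℕ → Four
  | 0 => .o
  | 1 => .e
  | 2 => .w
  | _ => .u

/-- The place of a coordinate. -/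
def num14 : Cfsg.Lie.chevG2.Idx → ℕ
  | .inl i => i.val
  | .inr s => 2 + s.val

/-- The matrix with given entries. -/
def matOf (c : ℕ) : M14 := Matrix.of fun i j => four (c / 4 ^ (14 * num14 i + num14 j) % 4)

/-- A list of matrices, each product of two earlier ones after the first ones. -/
structure Prog where
  base : List ℕ
  steps : List (ℕ × ℕ × ℕ)

/-- All values. -/
def Prog.vals (p : Prog) : List ℕ := p.base ++ p.steps.map fun s => s.2.2

/-- The value of a place. -/
def Prog.val (p : Prog) (i : ℕ) : M14 := matOf (p.vals.getD i 0)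

/-- A step is right. -/
def Prog.Good (p : Prog) (k : ℕ) : Prop :=
  (p.steps.getD k (0, 0, 0)).1 < p.base.length + k ∧ (p.steps.getD k (0, 0, 0)).2.1 < p.base.length + k ∧
    p.val (p.steps.getD k (0, 0, 0)).1 * p.val (p.steps.getD k (0, 0, 0)).2.1 =
      matOf (p.steps.getD k (0, 0, 0)).2.2

instance (p : Prog) (k : ℕ) : Decidable (p.Good k) := by unfold Prog.Good; infer_instance

/-- Steps `a, …, a + len - 1` are right. -/
def Prog.range (p : Prog) (a len : ℕ) : Bool := (List.range' a len).all fun k => decide (p.Good k)

theorem Prog.range_spec {p : Prog} {a len k : ℕ} (h : p.range a len = true) (h1 : a ≤ k) (h2 : k < a + len) :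
    p.Good k :=
  of_decide_eq_true (List.all_eq_true.1 h k (List.mem_range'_1.2 ⟨h1, h2⟩))

theorem Prog.val_step {p : Prog} (k : ℕ) (hk : k < p.steps.length) :
    p.val (p.base.length + k) = matOf (p.steps.getD k (0, 0, 0)).2.2 := by
  rw [Prog.val, Prog.vals, List.getD_append_right _ _ _ _ (by omega), Nat.add_sub_cancel_left,
    List.getD_eq_getElem _ _ (by rw [List.length_map]; exact hk), List.getElem_map,
    List.getD_eq_getElem _ _ hk]

/-- Every value lies in a submonoid containing the first ones. -/
theorem Prog.mem {p : Prog} {S : Submonoid M14} (hgood : ∀ k, k < p.steps.length → p.Good k)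
    (hbase : ∀ i, i < p.base.length → p.val i ∈ S) : ∀ i, i < p.base.length + p.steps.length → p.val i ∈ S := by
  intro i
  induction i using Nat.strong_induction_on with
  | _ i ih =>
    intro hi
    by_cases h : i < p.base.length
    · exact hbase i h
    obtain ⟨k, rfl⟩ : ∃ k, i = p.base.length + k := ⟨i - p.base.length, by omega⟩
    obtain ⟨h1, h2, e⟩ := hgood k (by omega)
    rw [p.val_step k (by omega), ← e]
    exact S.mul_mem (ih _ h1 (by omega)) (ih _ h2 (by omega))

/-- The place of a product, if it was computed. -/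
def Prog.find (p : Prog) (a b : ℕ) : Option ℕ :=
  (p.steps.findIdx? fun s => s.1 == a && s.2.1 == b).map (p.base.length + ·)

/-- The place of the product of a word. -/
def Prog.place (p : Prog) : ℕ → List ℕ → Option ℕ
  | a, [] => some a
  | a, x :: w => (p.find a x).bind fun b => p.place b w

theorem Prog.find_spec {p : Prog} (hgood : ∀ k, k < p.steps.length → p.Good k) {a b c : ℕ}
    (h : p.find a b = some c) : p.val a * p.val b = p.val c := by
  obtain ⟨k, hk, rfl⟩ := Option.map_eq_some_iff.1 h
  obtain ⟨hlt, hp, -⟩ := List.findIdx?_eq_some_iff_getElem.1 hk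
  simp only [Bool.and_eq_true, beq_iff_eq] at hp
  have e := (hgood k hlt).2.2
  rw [List.getD_eq_getElem _ _ hlt, hp.1, hp.2] at e
  rw [e, p.val_step k hlt, List.getD_eq_getElem _ _ hlt]

theorem Prog.place_spec {p : Prog} (hgood : ∀ k, k < p.steps.length → p.Good k) :
    ∀ {w : List ℕ} {a c : ℕ}, p.place a w = some c → p.val a * (w.map p.val).prod = p.val c := by
  intro w
  induction w with
  | nil => intro a c h; obtain rfl : a = c := Option.some.inj h; simp
  | cons x w ih =>
    intro a c h
    obtain ⟨b, hb, h'⟩ := Option.bind_eq_some_iff.1 h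
    rw [List.map_cons, List.prod_cons, ← mul_assoc, p.find_spec hgood hb]
    exact ih h'

end CfsgLib.Spor.Suz.GTwo
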