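/-
Checks of the products.
-/
import Cfsg.Agent.Lib.Spor.Suz.GTwo.Data

namespace CfsgLib.Spor.Suz.GTwo

theorem good200 : progB.range 200 50 = true := by decide +kernel

theorem good250 : progB.range 250 50 = true := by decide +kernel

theorem good300 : progB.range 300 50 = true := by decide +kernel

theorem good350 : progB.range 350 50 = true := by decide +kernel

end CfsgLib.Spor.Suz.GTwo
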