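/-
All checks of the products.
-/
import Cfsg.Agent.Lib.Spor.Suz.GTwo.Check0
import Cfsg.Agent.Lib.Spor.Suz.GTwo.Check1
import Cfsg.Agent.Lib.Spor.Suz.GTwo.Check2
import Cfsg.Agent.Lib.Spor.Suz.GTwo.Check3

namespace CfsgLib.Spor.Suz.GTwo

theorem progB_good (k : ℕ) (hk : k < progB.steps.length) : progB.Good k := by
  have hn : progB.steps.length = 604 := by decide +kernel
  by_cases h0 : k < 50
  · exact Prog.range_spec good0 (by omega) (by omega)
  by_cases h50 : k < 100
  · exact Prog.range_spec good50 (by omega) (by omega)
  by_cases h100 : k < 150
  · exact Prog.range_spec good100 (by omega) (by omega)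
  by_cases h150 : k < 200
  · exact Prog.range_spec good150 (by omega) (by omega)
  by_cases h200 : k < 250
  · exact Prog.range_spec good200 (by omega) (by omega)
  by_cases h250 : k < 300
  · exact Prog.range_spec good250 (by omega) (by omega)
  by_cases h300 : k < 350
  · exact Prog.range_spec good300 (by omega) (by omega)
  by_cases h350 : k < 400
  · exact Prog.range_spec good350 (by omega) (by omega)
  by_cases h400 : k < 450
  · exact Prog.range_spec good400 (by omega) (by omega)
  by_cases h450 : k < 500
  · exact Prog.range_spec good450 (by omega) (by omega)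
  by_cases h500 : k < 550
  · exact Prog.range_spec good500 (by omega) (by omega)
  by_cases h550 : k < 600
  · exact Prog.range_spec good550 (by omega) (by omega)
  exact Prog.range_spec good600 (by omega) (by omega)

theorem progA_good (k : ℕ) (hk : k < progA.steps.length) : progA.Good k :=
  Prog.range_spec (a := 0) (len := 3) (by decide +kernel) (Nat.zero_le k) (lt_of_lt_of_eq hk (by decide +kernel))

end CfsgLib.Spor.Suz.GTwo
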